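import Mathlib.AlgebraicGeometry.Morphisms.Smooth
import Mathlib.AlgebraicGeometry.Morphisms.Etale
import Mathlib.RingTheory.Unramified.LocalStructure

set_option autoImplicit false
set_option backward.isDefEq.respectTransparency false
universe u
open CategoryTheory AlgebraicGeometry

namespace Groth.Agent.NhdChart

variable {P : MorphismProperty Scheme.{u}} {Q : ∀ {R S : Type u} [CommRing R] [CommRing S], (R →+* S) → Prop}
  [HasRingHomProperty P Q]

lemma ι_comp_appLE {X S : Scheme.{u}} (f : X ⟶ S) {U : X.Opens} {V : S.Opens} (e : U ≤ f ⁻¹ᵁ V) :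
    ∃ h, (U.ι ≫ f).appLE V ⊤ h = f.appLE V U e ≫ U.topIso.inv := by
  refine ⟨fun x _ => e x.2, ?_⟩
  rw [← Scheme.Hom.appLE_comp_appLE U.ι f V U ⊤ e (fun x _ => x.2)]
  simp [Scheme.Hom.appLE, ← Functor.map_comp]
  rfl

include P in
lemma prop_appLE {X S : Scheme.{u}} (f : X ⟶ S) {U : X.Opens} (hU : IsAffineOpen U) {V : S.Opens}
    (hV : IsAffineOpen V) (e : U ≤ f ⁻¹ᵁ V) (h : P (U.ι ≫ f)) : Q (f.appLE V U e).hom := by
  haveI : IsAffine (U : Scheme.{u}) := hU
  obtain ⟨h', he⟩ := ι_comp_appLE f e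
  have := HasRingHomProperty.appLE P (U.ι ≫ f) h ⟨V, hV⟩ ⟨⊤, isAffineOpen_top _⟩ h'
  rw [he] at this
  rwa [CommRingCat.hom_comp, (HasRingHomProperty.isLocal_ringHomProperty P).respectsIso.cancel_right_isIso] at this

lemma prop_of_appLE {X S : Scheme.{u}} (f : X ⟶ S) {U : X.Opens} (hU : IsAffineOpen U) {V : S.Opens}
    (hV : IsAffineOpen V) (e : U ≤ f ⁻¹ᵁ V) (hs : RingHom.StableUnderCompositionWithLocalizationAwaySource Q) (h : Q (f.appLE V U e).hom) : P (U.ι ≫ f) := by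
  haveI : IsAffine (U : Scheme.{u}) := hU
  obtain ⟨h', he⟩ := ι_comp_appLE f e
  refine (HasRingHomProperty.iff_exists_appLE (P := P) hs).2 fun x => ⟨⟨V, hV⟩, ⟨⊤, isAffineOpen_top _⟩, trivial, h', ?_⟩
  rw [he, CommRingCat.hom_comp, (HasRingHomProperty.isLocal_ringHomProperty P).respectsIso.cancel_right_isIso]
  exact h

lemma exists_affine {X S : Scheme.{u}} (f : X ⟶ S) (hP : P.RespectsLeft @IsOpenImmersion) {W : X.Opens} {x : X} (hxW : x ∈ W)
    {V : S.Opens} (hxV : f x ∈ V) (h : P (W.ι ≫ f)) :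
    ∃ U : X.Opens, IsAffineOpen U ∧ x ∈ U ∧ U ≤ f ⁻¹ᵁ V ∧ P (U.ι ≫ f) := by
  obtain ⟨_, ⟨U, hU, rfl⟩, hxU, hle⟩ := X.isBasis_affineOpens.exists_subset_of_mem_open
    (show x ∈ ((W ⊓ f ⁻¹ᵁ V : X.Opens) : Set X) from ⟨hxW, hxV⟩) (W ⊓ f ⁻¹ᵁ V).2
  refine ⟨U, hU, hxU, fun y hy => (hle hy).2, ?_⟩
  rw [← X.homOfLE_ι (show U ≤ W from fun y hy => (hle hy).1), Category.assoc]
  exact hP.precomp _ inferInstance _ h

lemma smooth_chart {X S : Scheme.{u}} (f : X ⟶ S) (x : X) (V : S.Opens) (hV : IsAffineOpen V) (hxV : f x ∈ V) :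
    (∃ W : X.Opens, x ∈ W ∧ Smooth (W.ι ≫ f)) ↔
      ∃ (U : X.Opens) (_ : IsAffineOpen U) (_ : x ∈ U) (e : U ≤ f ⁻¹ᵁ V),
        (f.appLE V U e).hom.IsStandardSmooth := by
  constructor
  · rintro ⟨W, hxW, h⟩
    obtain ⟨U, hU, hxU, e, h⟩ := exists_affine (P := @Smooth) f inferInstance hxW hxV h
    obtain ⟨s, hs, ht⟩ := RingHom.Smooth.locally_isStandardSmooth (prop_appLE (P := @Smooth) f hU hV e h)
    obtain ⟨t, hts, hxt⟩ : ∃ t ∈ s, x ∈ X.basicOpen t := by
      have := (hU.iSup_basicOpen_eq_self_iff (s := s)).2 hs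
      obtain ⟨⟨t, hts⟩, hxt⟩ := TopologicalSpace.Opens.mem_iSup.1 (this.ge hxU)
      exact ⟨t, hts, hxt⟩
    refine ⟨X.basicOpen t, hU.basicOpen t, hxt, (X.basicOpen_le t).trans e, ?_⟩
    rw [← Scheme.Hom.appLE_map _ e (homOfLE (X.basicOpen_le t)).op]
    letI := (X.presheaf.map (homOfLE (X.basicOpen_le t)).op).hom.toAlgebra
    haveI : IsLocalization.Away t Γ(X, X.basicOpen t) := hU.isLocalization_basicOpen t
    let E := IsLocalization.algEquiv (Submonoid.powers t) (Localization.Away t) Γ(X, X.basicOpen t)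
    have h2 := RingHom.isStandardSmooth_respectsIso.1 _ E.toRingEquiv (ht t hts)
    convert h2 using 1
    ext r
    exact (E.commutes _).symm
  · rintro ⟨U, hU, hxU, e, h⟩
    exact ⟨U, hxU, prop_of_appLE (P := @Smooth) f hU hV e (RingHom.Smooth.stableUnderComposition.stableUnderCompositionWithLocalizationAway RingHom.Smooth.holdsForLocalizationAway).1 (RingHom.IsStandardSmooth.smooth h)⟩

lemma etale_chart {X S : Scheme.{u}} (f : X ⟶ S) (x : X) (V : S.Opens) (hV : IsAffineOpen V) (hxV : f x ∈ V) :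
    (∃ W : X.Opens, x ∈ W ∧ Etale (W.ι ≫ f)) ↔
      ∃ (U : X.Opens) (_ : IsAffineOpen U) (_ : x ∈ U) (e : U ≤ f ⁻¹ᵁ V),
        letI := (f.appLE V U e).hom.toAlgebra
        Algebra.IsStandardEtale Γ(S, V) Γ(X, U) := by
  constructor
  · rintro ⟨W, hxW, h⟩
    obtain ⟨U, hU, hxU, e, h⟩ := exists_affine (P := @Etale) f inferInstance hxW hxV h
    letI := (f.appLE V U e).hom.toAlgebra
    haveI : Algebra.Etale Γ(S, V) Γ(X, U) := prop_appLE (P := @Etale) f hU hV e h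
    let q := hU.primeIdealOf ⟨x, hxU⟩
    obtain ⟨t, htq, ht⟩ := Algebra.IsEtaleAt.exists_isStandardEtale (R := Γ(S, V)) q.asIdeal
    have hxt : x ∈ X.basicOpen t := by
      have h1 : hU.fromSpec q ∈ X.basicOpen t := by
        show q ∈ hU.fromSpec ⁻¹ᵁ X.basicOpen t
        rw [hU.fromSpec_preimage_basicOpen]
        exact htq
      rwa [show hU.fromSpec q = x from hU.fromSpec_primeIdealOf ⟨x, hxU⟩] at h1
    refine ⟨X.basicOpen t, hU.basicOpen t, hxt, (X.basicOpen_le t).trans e, ?_⟩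
    letI a1 := (X.presheaf.map (homOfLE (X.basicOpen_le t)).op).hom.toAlgebra
    haveI : IsLocalization.Away t Γ(X, X.basicOpen t) := hU.isLocalization_basicOpen t
    letI a2 := (f.appLE V (X.basicOpen t) ((X.basicOpen_le t).trans e)).hom.toAlgebra
    haveI : IsScalarTower Γ(S, V) Γ(X, U) Γ(X, X.basicOpen t) := .of_algebraMap_eq' (by
      simp only [RingHom.algebraMap_toAlgebra, ← CommRingCat.hom_comp, Scheme.Hom.appLE_map])
    exact .of_equiv ((IsLocalization.algEquiv (Submonoid.powers t) (Localization.Away t) Γ(X, X.basicOpen t)).restrictScalars Γ(S, V))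
  · rintro ⟨U, hU, hxU, e, h⟩
    letI := (f.appLE V U e).hom.toAlgebra
    haveI := h
    exact ⟨U, hxU, prop_of_appLE (P := @Etale) f hU hV e (RingHom.Etale.stableUnderComposition.stableUnderCompositionWithLocalizationAway fun _ _ _ _ _ r _ => RingHom.etale_algebraMap.2 (Algebra.Etale.of_isLocalizationAway r)).1 (inferInstanceAs (Algebra.Etale Γ(S, V) Γ(X, U)))⟩

end Groth.Agent.NhdChart
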